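import Cfsg.Agent.Lib.Spor.JankoFourFive.CentT

/-!
An element of order eleven of the automorphism group of `M22` conjugate to its cube and to its
inverse.
-/

set_option autoImplicit false
set_option maxRecDepth 100000

namespace CfsgLib.Spor.JankoFourBridge

open Cfsg CfsgLib.Spor CfsgLib.MathieuOut CfsgLib.Spor.JankoFourFive

/-- an element of the duad stabiliser inverting the first generator of `M22` -/
def invA : ℕ := 22566185766497139294779895848535127

theorem eleven_checks :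
    inStabP [duadM] [] M22Cert.genA = true ∧ inStabP [duadM] [] M22Cert.genB = true ∧
    inStabP [duadM] [] invA = true ∧
    eqP (powP M22Cert.genA 11) idP = true ∧ eqP M22Cert.genA idP = false ∧
    eqP (compP M22Cert.genB M22Cert.genA) (compP (powP M22Cert.genA 3) M22Cert.genB) = true ∧
    eqP (compP invA M22Cert.genA) (compP (powP M22Cert.genA 10) invA) = true := by
  decide +kernel

theorem exists_eleven_aut : ∃ a φ ψ : MulAut ↥Cfsg.Spor.M22, orderOf a = 11 ∧
    φ * a * φ⁻¹ = a ^ 10 ∧ ψ * a * ψ⁻¹ = a ^ 3 := by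
  haveI : Fact (Nat.Prime 11) := ⟨by norm_num⟩
  obtain ⟨hA, hB, hI, h11, hne, hBA, hIA⟩ := eleven_checks
  obtain ⟨α, hα, rα⟩ := exists_stab_rep (prev := []) rfl hA
  obtain ⟨β, hβ, rβ⟩ := exists_stab_rep (prev := []) rfl hB
  obtain ⟨γ, hγ, rγ⟩ := exists_stab_rep (prev := []) rfl hI
  obtain ⟨e⟩ := JankoFourCentral.nonempty_duadStab_autM22
  let e' := (MulEquiv.subgroupCongr duadStab_eq).trans e
  refine ⟨e' ⟨α, hα⟩, e' ⟨γ, hγ⟩, e' ⟨β, hβ⟩, ?_, ?_, ?_⟩
  · rw [MulEquiv.orderOf_eq, Subgroup.orderOf_mk]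
    refine orderOf_eq_prime ((eqP_iff (rα.pow 11) (rep_one : Rep 1 CfsgLib.Spor.idP)).1 h11) fun e => ?_
    exact absurd (hne.symm.trans ((eqP_iff rα (rep_one : Rep 1 CfsgLib.Spor.idP)).2 e)) (by decide)
  · rw [← map_inv, ← map_mul, ← map_mul, ← map_pow]
    refine congrArg e' (mul_inv_eq_iff_eq_mul.2 (Subtype.ext ?_))
    simpa using (eqP_iff (rγ.mul rα) ((rα.pow 10).mul rγ)).1 hIA
  · rw [← map_inv, ← map_mul, ← map_mul, ← map_pow]
    refine congrArg e' (mul_inv_eq_iff_eq_mul.2 (Subtype.ext ?_))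
    simpa using (eqP_iff (rβ.mul rα) ((rα.pow 3).mul rβ)).1 hBA

end CfsgLib.Spor.JankoFourBridge
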