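import Mathlib
import Cfsg.Agent.Lib.Spor.U62.Code

/-!
Linear maps of order eleven over the field of four elements: the dimension of their fixed space,
and none in dimension six is conjugate both to its cube and to its inverse.
-/

set_option autoImplicit false
set_option linter.style.haveILetI false
set_option linter.unusedSectionVars false

namespace CfsgLib.Spor.JankoFourBridge

open CfsgLib.Spor.U62

theorem card_K4' : Nat.card K4 = 4 := by
  rw [Nat.card_congr (QuadraticAlgebra.equivProd (1 : ZMod 2) (1 : ZMod 2)), Nat.card_prod,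
    Nat.card_zmod]

theorem natCast_K4 (n : ℕ) : (n : K4) = ((n % 2 : ℕ) : K4) := by
  have h2 : ((2 : ℕ) : K4) = 0 := by decide +kernel
  conv_lhs => rw [← Nat.mod_add_div n 2, Nat.cast_add, Nat.cast_mul, h2, zero_mul, add_zero]

variable {U : Type*} [AddCommGroup U] [Module K4 U] [Finite U]

/-- the fixed space -/
def fixSpace (α : Module.End K4 U) : Submodule K4 U := LinearMap.ker (α - 1)

theorem mem_fixSpace {α : Module.End K4 U} {v : U} : v ∈ fixSpace α ↔ α v = v := by
  rw [fixSpace, LinearMap.mem_ker, LinearMap.sub_apply, sub_eq_zero]; rfl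

theorem fix_congr {α : Module.End K4 U} (h11 : α ^ 11 = 1) :
    4 ^ Module.finrank K4 U % 11 = 4 ^ Module.finrank K4 (fixSpace α) % 11 := by
  classical
  haveI : Fact (Nat.Prime 11) := ⟨by norm_num⟩
  haveI : Module.Finite K4 U := Module.Finite.of_finite
  have hmul : α * α ^ 10 = 1 := by rw [← pow_succ', h11]
  have hmul' : α ^ 10 * α = 1 := by rw [← pow_succ, h11]
  let u : (Module.End K4 U)ˣ := ⟨α, α ^ 10, hmul, hmul'⟩
  have hu : u ^ 11 = 1 := Units.ext (by rw [Units.val_pow_eq_pow_val]; exact h11)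
  have hp : IsPGroup 11 (Subgroup.zpowers u) := by
    rintro ⟨g, hg⟩
    refine ⟨1, Subtype.ext ?_⟩
    obtain ⟨i, rfl⟩ := Subgroup.mem_zpowers_iff.1 hg
    show (u ^ i) ^ (11 ^ 1) = 1
    rw [pow_one, ← zpow_natCast, ← zpow_mul, mul_comm, zpow_mul, zpow_natCast, hu, one_zpow]
  have h := hp.card_modEq_card_fixedPoints U
  have hfix : Nat.card (MulAction.fixedPoints (Subgroup.zpowers u) U) = Nat.card (fixSpace α) := by
    refine Nat.card_congr (Equiv.subtypeEquivRight fun v => ?_)
    rw [MulAction.mem_fixedPoints]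
    constructor
    · intro hv
      exact mem_fixSpace.2 (hv ⟨u, Subgroup.mem_zpowers u⟩)
    · rintro hv ⟨g, hg⟩
      have hst : Subgroup.zpowers u ≤ MulAction.stabilizer (Module.End K4 U)ˣ v :=
        Subgroup.zpowers_le.2 (mem_fixSpace.1 hv)
      exact hst hg
  rw [hfix] at h
  rw [Module.natCard_eq_pow_finrank (K := K4) (V := U),
    Module.natCard_eq_pow_finrank (K := K4) (V := fixSpace α), card_K4'] at h
  exact h

theorem eq_one_of_small {α : Module.End K4 U} (h11 : α ^ 11 = 1)
    (hn : Module.finrank K4 U < 5) : α = 1 := by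
  haveI : Module.Finite K4 U := Module.Finite.of_finite
  have hle := Submodule.finrank_le (fixSpace α)
  have h := fix_congr h11
  have key : ∀ n < 5, ∀ f ≤ n, 4 ^ n % 11 = 4 ^ f % 11 → f = n := by decide +kernel
  have hf := key _ hn _ hle h
  have htop : fixSpace α = ⊤ := Submodule.eq_top_of_finrank_eq hf
  exact LinearMap.ext fun v => mem_fixSpace.1 (htop ▸ Submodule.mem_top : v ∈ fixSpace α)

theorem not_real {α : Module.End K4 U} (hn : Module.finrank K4 U = 6) (h11 : α ^ 11 = 1) (hne : α ≠ 1)
    (h3 : ∃ u : (Module.End K4 U)ˣ, (u : Module.End K4 U) * α * ↑u⁻¹ = α ^ 3)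
    (h10 : ∃ u : (Module.End K4 U)ˣ, (u : Module.End K4 U) * α * ↑u⁻¹ = α ^ 10) : False := by
  classical
  haveI : Module.Finite K4 U := Module.Finite.of_finite
  have hf : Module.finrank K4 (fixSpace α) = 1 := by
    have hle := Submodule.finrank_le (fixSpace α)
    have h := fix_congr h11
    rw [hn] at h hle
    have key : ∀ f ≤ 6, 4 ^ 6 % 11 = 4 ^ f % 11 → f = 1 ∨ f = 6 := by decide +kernel
    refine (key _ hle h).resolve_right fun h6 => hne ?_
    have htop : fixSpace α = ⊤ := Submodule.eq_top_of_finrank_eq (h6.trans hn.symm)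
    exact LinearMap.ext fun v => mem_fixSpace.1 (htop ▸ Submodule.mem_top : v ∈ fixSpace α)
  set t := fun i : ℕ => LinearMap.trace K4 U (α ^ i) with ht
  have hconj : ∀ j, (∃ u : (Module.End K4 U)ˣ, (u : Module.End K4 U) * α * ↑u⁻¹ = α ^ j) →
      ∀ i, t (j * i % 11) = t i := by
    rintro j ⟨u, hu⟩ i
    have e : α ^ (j * i % 11) = (u : Module.End K4 U) * α ^ i * ↑u⁻¹ := by
      rw [← Units.conj_pow, hu, ← pow_mul]
      conv_rhs => rw [← Nat.mod_add_div (j * i) 11, pow_add, pow_mul, h11, one_pow, mul_one]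
    show LinearMap.trace K4 U _ = LinearMap.trace K4 U _
    rw [e, LinearMap.trace_mul_comm, Units.inv_mul_cancel_left]
  have c3 := hconj 3 h3
  have c10 := hconj 10 h10
  have e3 : t 3 = t 1 := c3 1
  have e9 : t 9 = t 1 := (c3 3).trans e3
  have e5 : t 5 = t 1 := (c3 9).trans e9
  have e4 : t 4 = t 1 := (c3 5).trans e5
  have e10 : t 10 = t 1 := c10 1
  have e8 : t 8 = t 1 := (c10 3).trans e3
  have e2 : t 2 = t 1 := (c10 9).trans e9
  have e6 : t 6 = t 1 := (c10 5).trans e5
  have e7 : t 7 = t 1 := (c10 4).trans e4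
  have e0 : t 0 = 0 := by
    show LinearMap.trace K4 U (α ^ 0) = 0
    rw [pow_zero, LinearMap.trace_one, hn, natCast_K4]
    rfl
  set p : Module.End K4 U := ∑ i ∈ Finset.range 11, α ^ i with hp
  have hproj : LinearMap.IsProj (fixSpace α) p := by
    refine ⟨fun v => ?_, fun v hv => ?_⟩
    · have h1 : (α - 1) * p = α ^ 11 - 1 := mul_geom_sum α 11
      rw [h11, sub_self] at h1
      exact LinearMap.mem_ker.2 (by rw [← Module.End.mul_apply, h1]; rfl)
    · have hpow : ∀ i, (α ^ i) v = v := by
        intro i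
        induction i with
        | zero => rfl
        | succ i ih => rw [pow_succ, Module.End.mul_apply, mem_fixSpace.1 hv, ih]
      rw [hp, LinearMap.sum_apply]
      simp only [hpow, Finset.sum_const, Finset.card_range]
      rw [← Nat.cast_smul_eq_nsmul K4, natCast_K4]
      norm_num
  have htr := hproj.trace
  rw [hf, hp, map_sum, Nat.cast_one] at htr
  have hsum : ∑ i ∈ Finset.range 11, LinearMap.trace K4 U (α ^ i) = 0 := by
    show ∑ i ∈ Finset.range 11, t i = 0
    simp only [Finset.sum_range_succ, Finset.sum_range_zero, e0, e2, e3, e4, e5, e6, e7, e8, e9, e10]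
    have hh : ∀ x : K4, x + x = 0 := by
      rintro ⟨a, b⟩; exact QuadraticAlgebra.ext (CharTwo.add_self_eq_zero a) (CharTwo.add_self_eq_zero b)
    simp only [zero_add, hh]
  rw [hsum] at htr
  exact zero_ne_one htr

end CfsgLib.Spor.JankoFourBridge
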