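import Cfsg.Agent.Lib.Spor.JankoFourBridge.AutEleven
import Cfsg.Agent.Lib.Spor.JankoFourBridge.Linear
import Cfsg.Agent.Lib.Spor.LargeJ4.M22Facts
import Cfsg.Agent.Lib.Spor.LargeFi.QuadQuot
import Cfsg.Agent.Lib.Spor.LargeFi.Frame

/-!
A group with a large extraspecial normal subgroup of order `2^13`, a normal subgroup of three times
that order with quotient the automorphism group of `M22`, and perfect preimage of the inner
automorphisms modulo the core: the subgroup of order three is as in Janko's hypothesis.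
-/

set_option autoImplicit false
set_option maxRecDepth 100000
set_option maxHeartbeats 1000000
set_option linter.style.haveILetI false
set_option linter.unusedSectionVars false

namespace CfsgLib.Spor.JankoFourBridge

open CfsgLib.Spor.U62 CfsgLib.ThreeTransp CfsgLib.Spor.LargeFi
open scoped commutatorElement

section Kill

variable {H : Type*} [Group H]

/-- a homomorphism trivial on `Q` whose values on `M` commute is trivial on `M ≤ [M,M]Q` -/
theorem eq_one_of_perfect {Q M : Subgroup H} (hperf : M ≤ ⁅M, M⁆ ⊔ Q) {A : Type*} [Monoid A]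
    {S : Subgroup H} (f : S →* A) (hMS : M ≤ S) (hQS : Q ≤ S)
    (hQ : ∀ (q : H) (hq : q ∈ Q), f ⟨q, hQS hq⟩ = 1)
    (hcomm : ∀ (a b : H) (ha : a ∈ M) (hb : b ∈ M),
      f ⟨a, hMS ha⟩ * f ⟨b, hMS hb⟩ = f ⟨b, hMS hb⟩ * f ⟨a, hMS ha⟩) :
    ∀ (m : H) (hm : m ∈ M), f ⟨m, hMS hm⟩ = 1 := by
  have hle : M ≤ (f.toHomUnits.ker).map S.subtype := by
    refine hperf.trans (sup_le (Subgroup.commutator_le.2 fun a ha b hb => ?_) fun q hq => ?_)
    · refine ⟨⁅(⟨a, hMS ha⟩ : S), (⟨b, hMS hb⟩ : S)⁆, ?_, map_commutatorElement _ _ _⟩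
      rw [SetLike.mem_coe, MonoidHom.mem_ker, map_commutatorElement,
        commutatorElement_eq_one_iff_mul_comm]
      exact Units.ext (hcomm a b ha hb)
    · exact ⟨⟨q, hQS hq⟩, MonoidHom.mem_ker.2 (Units.ext (hQ q hq)), rfl⟩
  intro m hm
  obtain ⟨s, hs, e⟩ := hle hm
  have es : s = ⟨m, hMS hm⟩ := Subtype.ext e
  subst es
  exact congrArg Units.val (MonoidHom.mem_ker.1 hs)

end Kill

section Module

variable {U : Type*} [AddCommGroup U]

/-- the action of the field of four elements given by a map `w` with `w² + w + 1 = 0` -/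
def kAct (w : U →+ U) (c : K4) (v : U) : U :=
  (if c.re = 1 then v else 0) + (if c.im = 1 then w v else 0)

theorem z2_cases : ∀ a : ZMod 2, a = 0 ∨ a = 1 := by decide

/-- the module structure given by such a map -/
@[reducible] def kModule (w : U →+ U) (h2 : ∀ v : U, v + v = 0)
    (hw : ∀ v : U, w (w v) + w v + v = 0) : Module K4 U :=
  letI : SMul K4 U := ⟨kAct w⟩
  Module.ofMinimalAxioms (R := K4) (M := U)
    (smul_add := fun c u v => by
      show kAct w c (u + v) = kAct w c u + kAct w c v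
      rcases z2_cases c.re with h | h <;> rcases z2_cases c.im with h' | h' <;>
        simp [kAct, h, h', add_assoc, add_left_comm])
    (add_smul := fun c d v => by
      show kAct w (c + d) v = kAct w c v + kAct w d v
      have key : ∀ (a b : ZMod 2) (y : U), (if a + b = 1 then y else 0) =
          (if a = 1 then y else 0) + (if b = 1 then y else 0) := by
        intro a b y
        rcases z2_cases a with rfl | rfl <;> rcases z2_cases b with rfl | rfl <;>
          simp [h2, (show (1 : ZMod 2) + 1 = 0 by decide)]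
      simp only [kAct, QuadraticAlgebra.re_add, QuadraticAlgebra.im_add, key]
      abel)
    (mul_smul := fun c d v => by
      show kAct w (c * d) v = kAct w c (kAct w d v)
      have e : w (w v) = v + w v := by
        have := hw v
        calc w (w v) = w (w v) + ((w v + v) + (w v + v)) := by rw [h2, add_zero]
          _ = (w (w v) + w v + v) + (w v + v) := by abel
          _ = v + w v := by rw [this, zero_add, add_comm]
      have hab : ∀ a b : U, a + (b + a) = b := fun a b => by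
        rw [add_comm b a, ← add_assoc, h2, zero_add]
      rcases z2_cases c.re with h | h <;> rcases z2_cases c.im with h' | h' <;>
        rcases z2_cases d.re with k | k <;> rcases z2_cases d.im with k' | k' <;>
        simp [kAct, QuadraticAlgebra.re_mul, QuadraticAlgebra.im_mul, h, h', k, k', h2, hab, e, add_assoc,
          add_left_comm, (show (1 : ZMod 2) + 1 = 0 by decide)])
    (one_smul := fun v => by
      show kAct w 1 v = v
      simp [kAct, QuadraticAlgebra.re_one, QuadraticAlgebra.im_one])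

theorem om_smul (w : U →+ U) (h2 : ∀ v : U, v + v = 0)
    (hw : ∀ v : U, w (w v) + w v + v = 0) (v : U) :
    letI := kModule w h2 hw
    (CfsgLib.Spor.LargeFi.om : K4) • v = w v := by
  show kAct w om v = w v
  simp [kAct, CfsgLib.Spor.LargeFi.om]

theorem kAct_map (w : U →+ U) (f : U →+ U) (hf : ∀ v, f (w v) = w (f v)) (c : K4) (v : U) :
    f (kAct w c v) = kAct w c (f v) := by
  rcases z2_cases c.re with h | h <;> rcases z2_cases c.im with h' | h' <;> simp [kAct, h, h', hf]

end Module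

variable {H : Type*} [Group H] [Finite H]

/-- the preimage of the inner automorphisms -/
abbrev innPre {N : Subgroup H} [N.Normal] (eN : H ⧸ N ≃* MulAut Cfsg.Spor.M22) : Subgroup H :=
  (Cfsg.Inn Cfsg.Spor.M22).comap (eN.toMonoidHom.comp (QuotientGroup.mk' N))

set_option maxHeartbeats 4000000 in
theorem exists_order_three {Q : Subgroup H} [Q.Normal] {z : H} (hX : XCent Q z)
    (hcent : ∀ h : H, h * z = z * h) (hQ : Nat.card Q = 2 ^ 13)
    (N : Subgroup H) [N.Normal] (hQN : Q ≤ N) (hN : Nat.card N = 3 * Nat.card Q)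
    (eN : H ⧸ N ≃* MulAut Cfsg.Spor.M22) (hperf : innPre eN ≤ ⁅innPre eN, innPre eN⁆ ⊔ Q) :
    ∃ P : Subgroup H, P ≤ N ∧ Nat.card P = 3 ∧
      Q ⊓ Subgroup.centralizer (P : Set H) = Subgroup.zpowers z ∧
      Subgroup.normalizer (P : Set H) ≠ Subgroup.centralizer (P : Set H) ∧
      P ≤ ⁅Subgroup.centralizer (P : Set H), Subgroup.centralizer (P : Set H)⁆ := by
  classical
  haveI : Fact (Nat.Prime 3) := ⟨by norm_num⟩
  haveI : Fact (Nat.Prime 11) := ⟨by norm_num⟩
  set π : H →* MulAut Cfsg.Spor.M22 := eN.toMonoidHom.comp (QuotientGroup.mk' N) with hπ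
  set M := innPre eN with hM
  have hπk : ∀ m, π m = 1 ↔ m ∈ N := by
    intro m
    show eN (m : H ⧸ N) = 1 ↔ _
    rw [MulEquiv.map_eq_one_iff, QuotientGroup.eq_one_iff]
  have hπs : Function.Surjective π := eN.surjective.comp (QuotientGroup.mk'_surjective N)
  have hNM : N ≤ M := fun n hn => by
    show π n ∈ Cfsg.Inn Cfsg.Spor.M22
    rw [(hπk n).2 hn]; exact one_mem _
  have hQM : Q ≤ M := hQN.trans hNM
  obtain ⟨⟨x, hxN⟩, hx⟩ := exists_prime_orderOf_dvd_card' (G := N) 3 (by rw [hN]; exact dvd_mul_right _ _)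
  rw [Subgroup.orderOf_mk] at hx
  have hx3 : x ^ 3 = 1 := by rw [← hx, pow_orderOf_eq_one]
  have hxQ : x ∉ Q := fun h => by
    have h2 := Subgroup.orderOf_dvd_natCard Q h
    rw [hx, hQ] at h2
    norm_num at h2
  have hNeq : Q ⊔ Subgroup.zpowers x = N := by
    refine Subgroup.eq_of_le_of_card_ge (sup_le hQN (Subgroup.zpowers_le.2 hxN)) ?_
    have h1 := Subgroup.card_dvd_of_le (le_sup_left : Q ≤ Q ⊔ Subgroup.zpowers x)
    have h2 := Subgroup.card_dvd_of_le (le_sup_right : Subgroup.zpowers x ≤ Q ⊔ Subgroup.zpowers x)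
    rw [Nat.card_zpowers, hx] at h2
    rw [hQ] at h1
    rw [hN, hQ]
    exact Nat.le_of_dvd Nat.card_pos (Nat.Coprime.mul_dvd_of_dvd_of_dvd (by norm_num) h2 h1)
  -- modulo the core
  set ρQ : H →* H ⧸ Q := QuotientGroup.mk' Q with hρQ
  haveI : (N.map ρQ).Normal := Subgroup.Normal.map inferInstance _ (QuotientGroup.mk'_surjective Q)
  have hNbar : N.map ρQ = Subgroup.zpowers (ρQ x) := by
    rw [← hNeq, Subgroup.map_sup, MonoidHom.map_zpowers,
      (Subgroup.map_eq_bot_iff _).2 (by rw [hρQ, QuotientGroup.ker_mk']), bot_sup_eq]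
  haveI hcyc : IsCyclic ↥(N.map ρQ) := by rw [hNbar]; infer_instance
  have hfixmod : ∀ m ∈ M, ρQ (m * x * m⁻¹) = ρQ x := by
    intro m hm
    let χ : (⊤ : Subgroup H) →* MulAut ↥(N.map ρQ) :=
      (MulAut.conjNormal (H := N.map ρQ)).comp (ρQ.comp (⊤ : Subgroup H).subtype)
    have h1 := eq_one_of_perfect hperf χ le_top le_top
      (fun q hq => by
        show MulAut.conjNormal (ρQ q) = 1
        rw [show ρQ q = 1 from (QuotientGroup.eq_one_iff q).2 hq, map_one])
      (fun a b _ _ => (IsCyclic.mulAutMulEquiv ↥(N.map ρQ)).injective (by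
        rw [map_mul, map_mul, mul_comm])) m hm
    have h2 := congrArg (fun f : MulAut ↥(N.map ρQ) =>
      ((f ⟨ρQ x, Subgroup.mem_map_of_mem _ hxN⟩ : ↥(N.map ρQ)) : H ⧸ Q)) h1
    simpa [χ, MulAut.conjNormal_apply] using h2
  obtain ⟨V, _, _, ⟨D⟩⟩ := exists_quadQuot hX hcent
  have happly : ∀ (a b : H) v, D.act (a * b) v = D.act a (D.act b v) := fun a b v => by
    rw [map_mul]; rfl
  have hone : ∀ v, D.act 1 v = v := fun v => by rw [map_one]; rfl
  have hact_inv : ∀ (h : H) v, D.act h (D.act h⁻¹ v) = v := fun h v => by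
    rw [← happly, mul_inv_cancel, hone]
  have hQact : ∀ a ∈ Q, ∀ v, D.act a v = v := fun a ha v => by rw [(D.ker_act a).2 ha]; rfl
  have hmod : ∀ a b : H, ρQ a = ρQ b → ∀ v, D.act a v = D.act b v := by
    intro a b e v
    have h1 : a⁻¹ * b ∈ Q := QuotientGroup.eq.1 e
    rw [show b = a * (a⁻¹ * b) by group, happly, hQact _ h1]
  let w : V →+ V := D.act x
  have hw3 : ∀ v, w (w (w v)) = v := by
    intro v
    show D.act x (D.act x (D.act x v)) = v
    rw [← happly, ← happly, ← pow_two, ← pow_succ, hx3, hone]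
  let fw : V →+ V := w.comp w + w + AddMonoidHom.id V
  have hfw : ∀ v, fw v = w (w v) + w v + v := fun v => rfl
  let U : AddSubgroup V := fw.ker
  let S : Subgroup H :=
    { carrier := {m | ∀ v, D.act m (w v) = w (D.act m v)}
      one_mem' := fun v => by rw [hone, hone]
      mul_mem' := fun {a b} ha hb v => by rw [happly, happly, hb v, ha (D.act b v)]
      inv_mem' := fun {a} ha v => by
        have e1 := ha (D.act a⁻¹ v)
        rw [hact_inv] at e1
        rw [← e1, ← happly, inv_mul_cancel, hone] }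
  have hSmem : ∀ m : H, ρQ (m * x * m⁻¹) = ρQ x → m ∈ S := by
    intro m hm v
    show D.act m (D.act x v) = D.act x (D.act m v)
    rw [← hmod _ _ hm (D.act m v), ← happly, ← happly]
    congr 2
    group
  have hMS : M ≤ S := fun m hm => hSmem m (hfixmod m hm)
  have hUinv : ∀ (m : S) (v : V), v ∈ U → D.act (m : H) v ∈ U := by
    intro m v hv
    rw [AddMonoidHom.mem_ker, hfw] at hv ⊢
    rw [← m.2, ← m.2, ← map_add, ← map_add, hv, map_zero]
  have hwU : ∀ v ∈ U, w v ∈ U := fun v hv => hUinv ⟨x, hMS (hNM hxN)⟩ v hv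
  let wU : U →+ U := (w.comp U.subtype).codRestrict U fun v => hwU v v.2
  have hwU2 : ∀ v : U, wU (wU v) + wU v + v = 0 := fun v => Subtype.ext v.2
  have h2U : ∀ v : U, v + v = 0 := fun v => Subtype.ext (D.two _)
  letI : Module K4 U := kModule wU h2U hwU2
  haveI : Module.Finite K4 U := Module.Finite.of_finite
  let ρ : S →* Module.End K4 U :=
    { toFun := fun m =>
        { toFun := fun v => ⟨D.act (m : H) v, hUinv m v v.2⟩
          map_add' := fun u v => Subtype.ext (map_add _ _ _)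
          map_smul' := fun c v => by
            let f : U →+ U := AddMonoidHom.mk' (fun v => ⟨D.act (m : H) v, hUinv m v v.2⟩)
              fun u v => Subtype.ext (map_add _ _ _)
            exact kAct_map wU f (fun u => Subtype.ext (m.2 (u : V))) c v }
      map_one' := LinearMap.ext fun v => Subtype.ext (hone _)
      map_mul' := fun a b => LinearMap.ext fun v => Subtype.ext (happly _ _ _) }
  have hρQ1 : ∀ (q : H) (hq : q ∈ Q), ρ ⟨q, hMS (hQM hq)⟩ = 1 := fun q hq =>
    LinearMap.ext fun v => Subtype.ext (hQact q hq _)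
  set xS : S := ⟨x, hMS (hNM hxN)⟩ with hxS
  have hρx : ρ xS = om • (1 : Module.End K4 U) :=
    LinearMap.ext fun v => by
      rw [LinearMap.smul_apply, Module.End.one_apply, om_smul]
      rfl
  have hρN : ∀ (n : H) (hn : n ∈ N), ∃ c : K4, c ^ 3 = 1 ∧
      ρ ⟨n, hMS (hNM hn)⟩ = c • (1 : Module.End K4 U) := by
    intro n hn
    have hn' := hn
    rw [← hNeq] at hn'
    obtain ⟨a, ha, b, hb, rfl⟩ := Subgroup.mem_sup_of_normal_left.1 hn'
    obtain ⟨j, rfl⟩ := Subgroup.mem_zpowers_iff.1 hb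
    have hj0 : 0 ≤ j % ((3 : ℕ) : ℤ) := Int.emod_nonneg _ (by norm_num)
    obtain ⟨i, hi⟩ : ∃ i : ℕ, x ^ j = x ^ i := ⟨(j % ((3 : ℕ) : ℤ)).toNat, by
      rw [← zpow_natCast, Int.toNat_of_nonneg hj0, ← zpow_eq_zpow_emod' j hx3]⟩
    refine ⟨om ^ i, by rw [← pow_mul, mul_comm, pow_mul, show (om : K4) ^ 3 = 1 by decide +kernel,
      one_pow], ?_⟩
    have e : (⟨a * x ^ j, hMS (hNM hn)⟩ : S) = ⟨a, hMS (hQM ha)⟩ * xS ^ i :=
      Subtype.ext (by
        show a * x ^ j = a * x ^ i
        rw [hi])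
    rw [e, map_mul, hρQ1 a ha, one_mul, map_pow, hρx, smul_pow, one_pow]
  have hkill : (∀ (a b : H) (ha : a ∈ M) (hb : b ∈ M),
      ρ ⟨a, hMS ha⟩ * ρ ⟨b, hMS hb⟩ = ρ ⟨b, hMS hb⟩ * ρ ⟨a, hMS ha⟩) → ∀ v : U, v = 0 := by
    intro hc v
    have h1 := eq_one_of_perfect hperf ρ hMS (hQM.trans hMS) hρQ1 hc x (hNM hxN)
    have h2 : w (v : V) = v := congrArg Subtype.val (LinearMap.congr_fun h1 v)
    have h3 : fw (v : V) = 0 := v.2
    rw [hfw, h2, h2, D.two, zero_add] at h3
    exact Subtype.ext h3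
  have hVU : (∀ v : U, v = 0) → False := by
    intro h0
    refine hxQ ((D.ker_act x).1 (AddMonoidHom.ext fun v => ?_))
    have hu : w v + v ∈ U := by
      rw [AddMonoidHom.mem_ker, hfw, map_add, map_add, hw3]
      calc v + w (w v) + (w (w v) + w v) + (w v + v)
          = (v + v) + (w v + w v) + (w (w v) + w (w v)) := by abel
        _ = 0 := by simp [D.two]
    have h1 : w v + v = 0 := congrArg Subtype.val (h0 ⟨_, hu⟩)
    calc D.act x v = w v + (v + v) := by rw [D.two, add_zero]; rfl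
      _ = (1 : AddMonoid.End V) v := by rw [← add_assoc, h1, zero_add]; rfl
  -- an element of order eleven
  obtain ⟨a, φ, ψ, ha, hφ, hψ⟩ := exists_eleven_aut
  have hInn2 : ∀ g : MulAut Cfsg.Spor.M22, g * g ∈ Cfsg.Inn Cfsg.Spor.M22 :=
    Subgroup.mul_self_mem_of_index_two J4.index_inn
  have haInn : a ∈ Cfsg.Inn Cfsg.Spor.M22 := by
    have h6 := hInn2 (a ^ 6)
    rwa [← pow_add, show 6 + 6 = orderOf a + 1 by rw [ha], pow_succ, pow_orderOf_eq_one, one_mul] at h6
  obtain ⟨A₀, hA₀⟩ := hπs a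
  set A := A₀ ^ (2 ^ 13 * 3 * 6) with hA
  have hπA : π A = a := by
    rw [hA, map_pow, hA₀, ← pow_mod_orderOf, ha, show (2 ^ 13 * 3 * 6) % 11 = 1 by norm_num, pow_one]
  have hAM : A ∈ M := by
    show π A ∈ Cfsg.Inn Cfsg.Spor.M22
    rw [hπA]; exact haInn
  have hA11 : A ^ 11 = 1 := by
    have h1 : A₀ ^ 11 ∈ N := (hπk _).1 (by rw [map_pow, hA₀, ← ha, pow_orderOf_eq_one])
    have h2 : (⟨A₀ ^ 11, h1⟩ : N) ^ Nat.card N = 1 := pow_card_eq_one'
    have h3 : (A₀ ^ 11) ^ (2 ^ 13 * 3) = 1 := by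
      rw [hN, hQ] at h2
      simpa [mul_comm] using congrArg Subtype.val h2
    rw [hA, ← pow_mul, show 2 ^ 13 * 3 * 6 * 11 = 11 * (2 ^ 13 * 3) * 6 by norm_num, pow_mul, pow_mul,
      h3, one_pow]
  clear_value A
  set α := ρ ⟨A, hMS hAM⟩ with hα
  have hα11 : α ^ 11 = 1 := by
    rw [hα, ← map_pow, show (⟨A, hMS hAM⟩ : S) ^ 11 = 1 from Subtype.ext hA11, map_one]
  have hαne : α ≠ 1 := by
    intro hα1
    refine hVU (hkill ?_)
    haveI := J4.isSimpleGroup_M22
    let R : Subgroup Cfsg.Spor.M22 :=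
      { carrier := {g | ∃ (m : H) (hm : m ∈ M), π m = MulAut.conj g ∧
          ρ ⟨m, hMS hm⟩ = 1}
        one_mem' := ⟨1, one_mem _, by simp, map_one ρ⟩
        mul_mem' := by
          rintro g g' ⟨m, hm, e, e'⟩ ⟨m', hm', f, f'⟩
          refine ⟨m * m', mul_mem hm hm', by rw [map_mul, map_mul, e, f], ?_⟩
          rw [show (⟨m * m', hMS (mul_mem hm hm')⟩ : S) = ⟨m, hMS hm⟩ * ⟨m', hMS hm'⟩ from rfl,
            map_mul, e', f', one_mul]
        inv_mem' := by
          rintro g ⟨m, hm, e, e'⟩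
          refine ⟨m⁻¹, inv_mem hm, by rw [map_inv, map_inv, e], ?_⟩
          have h1 : ρ ⟨m, hMS hm⟩ * ρ ⟨m⁻¹, hMS (inv_mem hm)⟩ = 1 := by
            rw [← map_mul, show (⟨m, hMS hm⟩ : S) * ⟨m⁻¹, hMS (inv_mem hm)⟩ = 1 from
              Subtype.ext (mul_inv_cancel m), map_one]
          rwa [e', one_mul] at h1 }
    haveI hRn : R.Normal := ⟨by
      rintro g ⟨m, hm, e, e'⟩ k
      obtain ⟨l, hl⟩ := hπs (MulAut.conj k)
      have hlM : l ∈ M := by show π l ∈ Cfsg.Inn Cfsg.Spor.M22; rw [hl]; exact ⟨k, rfl⟩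
      refine ⟨l * m * l⁻¹, mul_mem (mul_mem hlM hm) (inv_mem hlM),
        by simp only [map_mul, map_inv, e, hl], ?_⟩
      rw [show (⟨l * m * l⁻¹, hMS (mul_mem (mul_mem hlM hm) (inv_mem hlM))⟩ : S) =
        ⟨l, hMS hlM⟩ * ⟨m, hMS hm⟩ * ⟨l, hMS hlM⟩⁻¹ from rfl, map_mul, map_mul, e', mul_one,
        ← map_mul, mul_inv_cancel, map_one]⟩
    have hRtop : R = ⊤ := (hRn.eq_bot_or_eq_top).resolve_left fun h => by
      obtain ⟨g, hg⟩ := haInn
      have hgR : g ∈ R := ⟨A, hAM, hπA.trans hg.symm, hα1⟩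
      rw [h, Subgroup.mem_bot] at hgR
      have h1 : a = 1 := by rw [← hg, hgR, map_one]
      rw [h1, orderOf_one] at ha
      norm_num at ha
    intro p q hp hq
    have hsc : ∀ (m : H) (hm : m ∈ M), ∃ c : K4, ρ ⟨m, hMS hm⟩ = c • (1 : Module.End K4 U) := by
      intro m hm
      obtain ⟨g, hg⟩ : π m ∈ Cfsg.Inn Cfsg.Spor.M22 := id hm
      obtain ⟨m', hm', e, e'⟩ : g ∈ R := hRtop ▸ Subgroup.mem_top g
      have hn : m'⁻¹ * m ∈ N := (hπk _).1 (by rw [map_mul, map_inv, e, ← hg, inv_mul_cancel])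
      obtain ⟨c, -, hc⟩ := hρN _ hn
      refine ⟨c, ?_⟩
      rw [show (⟨m, hMS hm⟩ : S) = ⟨m', hMS hm'⟩ * ⟨m'⁻¹ * m, hMS (hNM hn)⟩ from
        Subtype.ext (mul_inv_cancel_left m' m).symm, map_mul, e', hc, one_mul]
    obtain ⟨c, hc⟩ := hsc p hp
    obtain ⟨d, hd⟩ := hsc q hq
    rw [hc, hd, smul_mul_smul_comm, smul_mul_smul_comm, mul_comm c d]
  have hn5 : 5 ≤ Module.finrank K4 U := by
    by_contra hlt
    exact hαne (eq_one_of_small hα11 (by omega))
  have hcardU : Nat.card U ≤ 4 ^ 6 := by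
    refine (Nat.card_le_card_of_injective _ (Subtype.val_injective : Function.Injective ((↑) : U → V))).trans ?_
    have := D.card_V
    rw [hQ] at this
    omega
  have hn : Module.finrank K4 U = 6 := by
    have h6 : Module.finrank K4 U ≤ 6 := by
      rw [Module.natCard_eq_pow_finrank (K := K4) (V := U), card_K4'] at hcardU
      exact (Nat.pow_le_pow_iff_right (by norm_num)).1 hcardU
    let δ : S →* K4 := LinearMap.det.comp ρ
    have h1 := eq_one_of_perfect hperf δ hMS (hQM.trans hMS)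
      (fun q hq => by show LinearMap.det (ρ _) = 1; rw [hρQ1 q hq, map_one])
      (fun _ _ _ _ => mul_comm _ _) x (hNM hxN)
    have h2 : LinearMap.det (ρ xS) = 1 := h1
    rw [hρx, LinearMap.det_smul, map_one, mul_one] at h2
    have key : (om : K4) ^ 5 ≠ 1 := by decide +kernel
    rcases (show Module.finrank K4 U = 5 ∨ Module.finrank K4 U = 6 by omega) with h | h
    · rw [h] at h2; exact absurd h2 key
    · exact h
  have hUtop : ∀ v : V, v ∈ U := by
    intro v
    have hb : Function.Bijective ((↑) : U → V) := by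
      rw [Nat.bijective_iff_injective_and_card]
      refine ⟨Subtype.val_injective, ?_⟩
      rw [Module.natCard_eq_pow_finrank (K := K4) (V := U), card_K4', hn]
      have := D.card_V
      rw [hQ] at this
      omega
    obtain ⟨u, rfl⟩ := hb.2 v
    exact u.2
  -- fixed points of the element of order three
  have hfix : ∀ q ∈ Q, q * x = x * q → q = 1 ∨ q = z := by
    intro q hq hqx
    set v := D.proj ⟨q, hq⟩ with hv
    have h1 : w v = v := by
      show D.act x v = v
      rw [hv, ← D.proj_conj]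
      exact congrArg D.proj (Subtype.ext (by
        rw [MulAut.conjNormal_apply, ← hqx, mul_inv_cancel_right]))
    have h3 : fw v = 0 := hUtop v
    rw [hfw, h1, h1, D.two, zero_add] at h3
    exact (D.proj_eq_zero ⟨q, hq⟩).1 h3
  -- correcting a normalising element modulo the core
  have hadj : ∀ h : H, ∀ e : ℕ, ρQ (h * x * h⁻¹) = ρQ (x ^ e) →
      ∃ b ∈ Q, (b * h) * x * (b * h)⁻¹ = x ^ e := by
    intro h e he
    have hrN : h * x * h⁻¹ ∈ N := (inferInstance : N.Normal).conj_mem x hxN h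
    have hro : orderOf (h * x * h⁻¹) = 3 := by rw [← MulAut.conj_apply, MulEquiv.orderOf_eq, hx]
    obtain ⟨c, hc, x', hx', -, hcx⟩ := CfsgLib.Spor.JankoFourFive.exists_conj_of_card_prime (p := 3)
      (H := N) (by rw [hN, hQ]; norm_num) hrN hxN hro hx
    rw [← hNeq] at hc
    obtain ⟨b, hb, y, hy, rfl⟩ := Subgroup.mem_sup_of_normal_left.1 hc
    obtain ⟨j, rfl⟩ := Subgroup.mem_zpowers_iff.1 hy
    have hx'e : x' = x ^ e := by
      have h1 : ρQ x' = ρQ (x ^ e) := by
        have hb1 : ρQ b = 1 := (QuotientGroup.eq_one_iff b).2 hb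
        rw [← hcx, map_mul, map_mul, map_inv, map_mul, he, hb1, one_mul, map_zpow, map_pow,
          mul_inv_eq_iff_eq_mul]
        exact (((Commute.refl _).pow_right e).zpow_left j).eq
      refine inv_mul_eq_one.1 ?_
      set y := x'⁻¹ * x ^ e
      have hy : y ∈ Q := QuotientGroup.eq.1 h1
      have hyz : y ∈ Subgroup.zpowers x :=
        mul_mem (inv_mem hx') (Subgroup.npow_mem_zpowers x e)
      have hd : orderOf y ∣ 3 := hx ▸ orderOf_dvd_of_mem_zpowers hyz
      have hd' : orderOf y ∣ 2 ^ 13 := hQ ▸ Subgroup.orderOf_dvd_natCard Q hy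
      exact orderOf_eq_one_iff.1 (Nat.eq_one_of_dvd_coprimes (by norm_num) hd hd')
    subst hx'e
    refine ⟨(x ^ j)⁻¹ * b * x ^ j, by simpa using (inferInstance : Q.Normal).conj_mem b hb (x ^ j)⁻¹, ?_⟩
    have e' : (x ^ j)⁻¹ * (x ^ e) * x ^ j = x ^ e := by
      rw [mul_assoc, inv_mul_eq_iff_eq_mul]
      exact (((Commute.refl x).pow_left e).zpow_right j).eq
    calc _ = (x ^ j)⁻¹ * ((b * x ^ j) * (h * x * h⁻¹) * (b * x ^ j)⁻¹) * x ^ j := by group
      _ = _ := by rw [hcx, e']
  have hCeq : Subgroup.centralizer ((Subgroup.zpowers x : Subgroup H) : Set H) =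
      Subgroup.centralizer ({x} : Set H) := by
    refine le_antisymm (Subgroup.centralizer_le (by simp)) fun g hg => ?_
    refine Subgroup.mem_centralizer_iff.2 fun y hy => ?_
    obtain ⟨i, rfl⟩ := Subgroup.mem_zpowers_iff.1 hy
    exact ((Commute.zpow_right (Subgroup.mem_centralizer_singleton_iff.1 hg : Commute g x) i).eq).symm
  refine ⟨Subgroup.zpowers x, Subgroup.zpowers_le.2 hxN, by rw [Nat.card_zpowers, hx], ?_, ?_, ?_⟩
  · rw [hCeq]
    refine le_antisymm (fun q hq => ?_) (Subgroup.zpowers_le.2 ⟨hX.mem,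
      Subgroup.mem_centralizer_singleton_iff.2 (hcent x).symm⟩)
    rcases hfix q hq.1 (Subgroup.mem_centralizer_singleton_iff.1 hq.2) with rfl | rfl
    exacts [one_mem _, Subgroup.mem_zpowers _]
  · intro heq
    have hall : ∀ h : H, ρQ (h * x * h⁻¹) = ρQ x := by
      intro h
      have hmem : ρQ (h * x * h⁻¹) ∈ Subgroup.zpowers (ρQ x) := by
        rw [← hNbar]
        exact Subgroup.mem_map_of_mem _ ((inferInstance : N.Normal).conj_mem x hxN h)
      obtain ⟨j, hj⟩ := Subgroup.mem_zpowers_iff.1 hmem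
      have hj0 : 0 ≤ j % ((3 : ℕ) : ℤ) := Int.emod_nonneg _ (by norm_num)
      obtain ⟨i, hi3, hi⟩ : ∃ i < 3, ρQ (h * x * h⁻¹) = ρQ (x ^ i) := by
        refine ⟨(j % ((3 : ℕ) : ℤ)).toNat, by omega, ?_⟩
        rw [map_pow, ← hj, ← zpow_natCast, Int.toNat_of_nonneg hj0,
          zpow_eq_zpow_emod' j (show ρQ x ^ 3 = 1 by rw [← map_pow, hx3, map_one])]
      interval_cases i
      · exfalso
        obtain ⟨b, -, hb⟩ := hadj h 0 hi
        rw [pow_zero, conj_eq_one_iff] at hb
        rw [hb, orderOf_one] at hx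
        norm_num at hx
      · rwa [pow_one] at hi
      · exfalso
        obtain ⟨b, -, hb⟩ := hadj h 2 hi
        have hn : b * h ∈ Subgroup.normalizer ((Subgroup.zpowers x : Subgroup H) : Set H) := by
          have hmap : (Subgroup.zpowers x).map (MulAut.conj (b * h)).toMonoidHom =
              Subgroup.zpowers x := by
            refine Subgroup.eq_of_le_of_card_ge ?_
              (by rw [Subgroup.card_map_of_injective (MulAut.conj (b * h)).injective])
            rw [MonoidHom.map_zpowers, Subgroup.zpowers_le]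
            show b * h * x * (b * h)⁻¹ ∈ _
            rw [hb]; exact Subgroup.npow_mem_zpowers x 2
          refine Subgroup.mem_normalizer_iff.2 fun y => ⟨fun hy => ?_, fun hy => ?_⟩
          · rw [← hmap]; exact ⟨y, hy, rfl⟩
          · rw [← hmap, Subgroup.mem_map_equiv, MulAut.conj_symm_apply] at hy
            simpa [mul_assoc] using hy
        rw [heq, hCeq, Subgroup.mem_centralizer_singleton_iff] at hn
        rw [hn, mul_inv_cancel_right, pow_two, left_eq_mul] at hb
        rw [hb, orderOf_one] at hx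
        norm_num at hx
    have hreal : ∀ (j : ℕ) (g : MulAut Cfsg.Spor.M22), g * a * g⁻¹ = a ^ j →
        ∃ u : (Module.End K4 U)ˣ, (u : Module.End K4 U) * α * ↑u⁻¹ = α ^ j := by
      intro j g hg
      obtain ⟨k, hk⟩ := hπs g
      set kS : S := ⟨k, hSmem k (hall k)⟩ with hkS
      refine ⟨ρ.toHomUnits kS, ?_⟩
      set n := k * A * k⁻¹ * (A ^ j)⁻¹ with hndef
      have hnN : n ∈ N := (hπk _).1 (by
        rw [hndef, map_mul, map_mul, map_mul, map_inv, map_inv, map_pow, hk, hπA, hg, mul_inv_cancel])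
      obtain ⟨c, hc3, hc⟩ := hρN n hnN
      have e : ρ kS * α * ρ kS⁻¹ = c • (α ^ j) := by
        rw [hα, ← map_mul, ← map_mul,
          show kS * ⟨A, hMS hAM⟩ * kS⁻¹ = ⟨n, hMS (hNM hnN)⟩ * ⟨A, hMS hAM⟩ ^ j from
            Subtype.ext (by
              show k * A * k⁻¹ = n * A ^ j
              rw [hndef, inv_mul_cancel_right]),
          map_mul, hc, map_pow, smul_mul_assoc, one_mul]
      have hc1 : c = 1 := by
        have h1 : (ρ kS * α * ρ kS⁻¹) ^ 11 = 1 := by
          rw [hα, ← map_mul, ← map_mul, ← map_pow, conj_pow,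
            show (⟨A, hMS hAM⟩ : S) ^ 11 = 1 from Subtype.ext hA11, mul_one, mul_inv_cancel, map_one]
        rw [e, smul_pow, ← pow_mul, mul_comm j, pow_mul, hα11, one_pow] at h1
        obtain ⟨v, hv⟩ : ∃ v : U, v ≠ 0 := by
          by_contra hno
          push Not at hno
          exact hVU hno
        have h2 := LinearMap.congr_fun h1 v
        rw [LinearMap.smul_apply, Module.End.one_apply] at h2
        have h3 : c ^ 11 = 1 := by
          by_contra hne
          have h4 : (c ^ 11 - 1) • v = 0 := by rw [sub_smul, one_smul, h2, sub_self]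
          exact hv ((smul_eq_zero.1 h4).resolve_left (sub_ne_zero.2 hne))
        calc c = c * (c ^ 11) := by rw [h3, mul_one]
          _ = (c ^ 3) ^ 4 := by rw [← pow_mul, ← pow_succ']
          _ = 1 := by rw [hc3, one_pow]
      rw [hc1, one_smul] at e
      rw [← map_inv, MonoidHom.coe_toHomUnits, MonoidHom.coe_toHomUnits]
      exact e
    exact not_real hn hα11 hαne (hreal 3 ψ hψ) (hreal 10 φ hφ)
  · rw [hCeq]
    set C := Subgroup.centralizer ({x} : Set H) with hC
    refine Subgroup.zpowers_le.2 ?_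
    have hMC : M.map ρQ ≤ C.map ρQ := by
      rintro _ ⟨m, hm, rfl⟩
      obtain ⟨b, hb, hbm⟩ := hadj m 1 (by rw [pow_one]; exact hfixmod m hm)
      refine ⟨b * m, Subgroup.mem_centralizer_singleton_iff.2
        (mul_inv_eq_iff_eq_mul.1 (hbm.trans (pow_one x))), ?_⟩
      rw [map_mul, show ρQ b = 1 from (QuotientGroup.eq_one_iff b).2 hb, one_mul]
    have hx' : ρQ x ∈ (⁅C, C⁆).map ρQ := by
      have h1 : ρQ x ∈ (⁅M, M⁆ ⊔ Q).map ρQ := Subgroup.mem_map_of_mem _ (hperf (hNM hxN))
      rw [Subgroup.map_sup, (Subgroup.map_eq_bot_iff Q).2 (by rw [hρQ, QuotientGroup.ker_mk']),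
        sup_bot_eq, Subgroup.map_commutator] at h1
      rw [Subgroup.map_commutator]
      exact Subgroup.commutator_mono hMC hMC h1
    obtain ⟨d, hd, hde⟩ := hx'
    have hdC : d ∈ C := (Subgroup.commutator_le.2 fun p hp q hq => by
      rw [commutatorElement_def]
      exact mul_mem (mul_mem (mul_mem hp hq) (inv_mem hp)) (inv_mem hq) : ⁅C, C⁆ ≤ C) hd
    have hdx : d * x⁻¹ ∈ Q := by
      rw [← QuotientGroup.eq_one_iff, ← QuotientGroup.mk'_apply, map_mul, map_inv, hde,
        mul_inv_cancel]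
    have hcomm : d * x⁻¹ * x = x * (d * x⁻¹) := by
      rw [inv_mul_cancel_right, ← mul_assoc, ← Subgroup.mem_centralizer_singleton_iff.1 hdC,
        mul_inv_cancel_right]
    rcases hfix _ hdx hcomm with h | h
    · rw [mul_inv_eq_one] at h
      exact h ▸ hd
    · rw [mul_inv_eq_iff_eq_mul] at h
      have hz2 : z * z = 1 := hX.inv
      have hxz : x * z = z * x := hcent x
      have h4 : d ^ 4 = x := by
        have hd2 : d * d = x * x := by
          rw [h]
          calc z * x * (z * x) = z * (x * z) * x := by group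
            _ = (z * z) * (x * x) := by rw [hxz]; group
            _ = x * x := by rw [hz2, one_mul]
        calc d ^ 4 = (d * d) ^ 2 := by rw [← pow_two, ← pow_mul]
          _ = (x * x) ^ 2 := by rw [hd2]
          _ = x ^ 3 * x := by rw [← pow_two, ← pow_mul, ← pow_succ]
          _ = x := by rw [hx3, one_mul]
      exact h4 ▸ pow_mem hd 4

end CfsgLib.Spor.JankoFourBridge
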