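import Cfsg.Agent.Lib.Spor.LargeJ4.Assembly
import Cfsg.Agent.Lib.Spor.JankoFourCentral.CoreFusion
import Cfsg.Agent.Lib.Spor.JankoFourFive.CentT

/-!
A simple group of Janko-four type is not commutative and has exactly two classes of involutions.
-/

set_option autoImplicit false
set_option linter.style.haveILetI false

namespace CfsgLib.Spor.JankoFourBridge

open Cfsg CfsgLib.Spor.JankoFourCentral CfsgLib.Spor.JankoFourFive

variable {G : Type*} [Group G] [Finite G] {z : G}

theorem not_comm_of_type (hJ : Cfsg.IsOfJankoFourTypeAt z) : ¬ IsMulCommutative G := by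
  intro hc
  obtain ⟨P, -, ⟨⟨-, -, hcom⟩, hZ⟩, hcard, -⟩ := hJ
  have htop : Subgroup.center ↥(twoCoreOfCentralizer z) = ⊤ :=
    eq_top_iff.2 fun a _ => Subgroup.mem_center_iff.2 fun b => Subtype.ext (hc.is_comm.comm (b : G) a)
  rw [htop, Subgroup.card_top, hcard] at hZ
  norm_num at hZ

/-- There are exactly two classes of involutions. -/
theorem two_classes [IsSimpleGroup G] (hJ : Cfsg.IsOfJankoFourTypeAt z) :
    ∃ x y : G, orderOf x = 2 ∧ orderOf y = 2 ∧ ¬ IsConj x y ∧
      ∀ u : G, orderOf u = 2 → IsConj u x ∨ IsConj u y := by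
  haveI : Fact (Nat.Prime 2) := ⟨Nat.prime_two⟩
  obtain ⟨A, _, ⟨D⟩⟩ := CfsgLib.Spor.LargeFi.J4.exists_eleven (not_comm_of_type hJ) hJ
  refine ⟨z, D.vm duadM, hJ.choose_spec.1,
    orderOf_eq_prime (by rw [pow_two]; exact D.vm_sq _) (vm_duad_ne_one D), vm_duad_not_conj D,
    fun u hu => ?_⟩
  by_cases hc : IsConj z u
  · exact Or.inl hc.symm
  · obtain ⟨g, hg⟩ := exists_conj_duad D hJ (D.core_fusion hJ) hu hc
    exact Or.inr (isConj_iff.2 ⟨g, hg⟩)

end CfsgLib.Spor.JankoFourBridge
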