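import Cfsg.Agent.Lib.Spor.JankoFourBridge.Bridge
import Cfsg.Agent.Lib.ThreeTransp.LargeFitting
import Cfsg.Agent.Lib.Components.FStar
import Cfsg.Prelude.Def_JankoFourType
import Cfsg.Prelude.Def_MonsterType

/-!
Involution centralisers given by a large extraspecial subgroup of order `2^13`, a normal subgroup of
three times that order and the quotient `Aut M22` (or `M22.2`) are of Janko-four type.
-/

set_option autoImplicit false
set_option maxHeartbeats 1000000
set_option linter.style.haveILetI false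
set_option linter.unusedSectionVars false

namespace CfsgLib.Spor.JankoFourBridge

open Cfsg CfsgLib.ThreeTransp CfsgLib.Involutions CfsgLib.Spor.LargeFi

section Abstract

variable {C : Type*} [Group C] [Finite C]

theorem not_isPGroup_M22 : ¬ IsPGroup 2 ↥Cfsg.Spor.M22 := by
  haveI : Fact (Nat.Prime 2) := ⟨Nat.prime_two⟩
  intro h
  obtain ⟨n, hn⟩ := IsPGroup.iff_card.1 h
  rw [CfsgLib.MathieuOut.natCard_M22] at hn
  have h3 : 3 ∣ 2 ^ n := by rw [← hn]; norm_num
  exact absurd (Nat.prime_three.dvd_of_dvd_pow h3) (by norm_num)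

/-- the 2-core is the extraspecial subgroup -/
theorem pCore_eq {Q : Subgroup C} [Q.Normal] (hQ : Nat.card Q = 2 ^ 13) (N : Subgroup C) [N.Normal]
    (hQN : Q ≤ N) (hN : Nat.card N = 3 * Nat.card Q) (eN : C ⧸ N ≃* MulAut Cfsg.Spor.M22) :
    Cfsg.pCore 2 C = Q := by
  haveI : Fact (Nat.Prime 2) := ⟨Nat.prime_two⟩
  have hQp : IsPGroup 2 Q := IsPGroup.of_card hQ
  refine le_antisymm ?_ (CfsgLib.Base.le_pCore hQp)
  have hp : IsPGroup 2 (Cfsg.pCore 2 C) := CfsgLib.Base.isPGroup_pCore 2 C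
  let f : C →* MulAut Cfsg.Spor.M22 := eN.toMonoidHom.comp (QuotientGroup.mk' N)
  haveI : ((Cfsg.pCore 2 C).map f).Normal := Subgroup.Normal.map inferInstance f
    (eN.surjective.comp (QuotientGroup.mk'_surjective N))
  haveI := J4.isSimpleGroup_M22
  have hbot := normal_two_mulAut (↥Cfsg.Spor.M22) not_isPGroup_M22 J4.center_M22 _ (hp.map f)
  have hPN : Cfsg.pCore 2 C ≤ N := by
    intro c hc
    have h1 : f c ∈ (Cfsg.pCore 2 C).map f := Subgroup.mem_map_of_mem _ hc
    rw [hbot, Subgroup.mem_bot] at h1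
    exact (QuotientGroup.eq_one_iff c).1 (eN.injective (h1.trans (map_one eN).symm))
  intro c hc
  let i : N →* C ⧸ Q := (QuotientGroup.mk' Q).comp N.subtype
  have hord2 : ∃ k, orderOf (i ⟨c, hPN hc⟩) ∣ 2 ^ k := by
    obtain ⟨k, hk⟩ := hp ⟨c, hc⟩
    refine ⟨k, orderOf_dvd_of_pow_eq_one ?_⟩
    rw [← map_pow, show (⟨c, hPN hc⟩ : N) ^ 2 ^ k = 1 from
      Subtype.ext (by simpa using congrArg Subtype.val hk), map_one]
  obtain ⟨k, hk⟩ := hord2
  have hcard : Nat.card i.range = 3 := by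
    have e : i.range = N.map (QuotientGroup.mk' Q) := by
      rw [MonoidHom.range_comp, Subgroup.range_subtype]
    have h := pCore_eq.card_map_mk hQN
    rw [hN] at h
    rw [e]
    exact Nat.eq_of_mul_eq_mul_right Nat.card_pos h
  have hk3 : orderOf (i ⟨c, hPN hc⟩) ∣ 3 :=
    hcard ▸ Subgroup.orderOf_dvd_natCard i.range ⟨_, rfl⟩
  have h1 := orderOf_eq_one_iff.1 (Nat.eq_one_of_dvd_coprimes (Nat.Coprime.pow_left k (by norm_num)) hk hk3)
  exact (QuotientGroup.eq_one_iff c).1 h1
where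
  card_map_mk {Q N : Subgroup C} [Q.Normal] (h : Q ≤ N) :
      Nat.card ↥(N.map (QuotientGroup.mk' Q)) * Nat.card Q = Nat.card N := by
    have e := Subgroup.card_eq_card_quotient_mul_card_subgroup (Q.subgroupOf N)
    rw [Nat.card_congr (Subgroup.subgroupOfEquivOfLe h).toEquiv] at e
    rw [e]
    congr 1
    refine Nat.card_congr ((MulEquiv.subgroupCongr
      (MonoidHom.domRestrict_range N (QuotientGroup.mk' Q))).symm.trans
      ((QuotientGroup.quotientKerEquivRange _).symm.trans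
        (QuotientGroup.quotientMulEquivOfEq ?_))).toEquiv
    ext a
    simp [Subgroup.mem_subgroupOf]

end Abstract

variable {G : Type*} [Group G] [Finite G] {t : G}

/-- the centraliser of an element -/
abbrev Cz (t : G) : Subgroup G := Subgroup.centralizer ({t} : Set G)

/-- from `Aut M22` on top and a perfect preimage of its inner part -/
theorem type_of_perfect (ht : orderOf t = 2)
    (Q N : Subgroup ↥(Subgroup.centralizer ({t} : Set G))) [Q.Normal] [N.Normal]
    (hQ : IsExtraspecial 2 Q) (hcard : Nat.card Q = 2 ^ 13)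
    (hCQ : Subgroup.centralizer (Q : Set ↥(Subgroup.centralizer ({t} : Set G))) ≤ Q)
    (hQN : Q ≤ N) (hN : Nat.card N = 3 * Nat.card Q)
    (eN : ↥(Subgroup.centralizer ({t} : Set G)) ⧸ N ≃* MulAut Cfsg.Spor.M22)
    (hperf : innPre eN ≤ ⁅innPre eN, innPre eN⁆ ⊔ Q) :
    Cfsg.IsOfJankoFourTypeAt t := by
  classical
  have hcentral : ∀ h : (Cz t), h * (⟨t, Subgroup.mem_centralizer_singleton_iff.2 rfl⟩ : (Cz t)) =
      ⟨t, Subgroup.mem_centralizer_singleton_iff.2 rfl⟩ * h := fun h =>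
    Subtype.ext (Subgroup.mem_centralizer_singleton_iff.1 h.2)
  set z : (Cz t) := ⟨t, Subgroup.mem_centralizer_singleton_iff.2 rfl⟩ with hz
  have hzQ : z ∈ Q := hCQ (Subgroup.mem_centralizer_iff.2 fun y _ => hcentral y)
  have hX : XCent Q z := by
    refine xCent_mk hQ hCQ (mem_centerIn.2 ⟨hzQ, fun q _ => hcentral q⟩) ?_ ?_
    · intro h
      have h' : t = 1 := congrArg Subtype.val h
      rw [h', orderOf_one] at ht
      norm_num at ht
    · rw [Subgroup.normalizer_eq_top]
      exact le_top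
  obtain ⟨P, hPN, hPc, hfix, hne, hcom⟩ := exists_order_three hX hcentral hcard N hQN hN eN hperf
  have hcore : Cfsg.twoCoreOfCentralizer t = Q.map (Cz t).subtype := by
    show (Cfsg.pCore 2 (Cz t)).map (Cz t).subtype = _
    rw [pCore_eq hcard N hQN hN eN]
  have hinj : Function.Injective (Cz t).subtype := Subtype.val_injective
  have hcentP : Subgroup.centralizer ({t} : Set G) ⊓
      Subgroup.centralizer ((P.map (Cz t).subtype : Subgroup G) : Set G) =
      (Subgroup.centralizer (P : Set (Cz t))).map (Cz t).subtype := by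
    ext g
    constructor
    · rintro ⟨hg, hgP⟩
      refine ⟨⟨g, hg⟩, Subgroup.mem_centralizer_iff.2 fun p hp => Subtype.ext ?_, rfl⟩
      exact Subgroup.mem_centralizer_iff.1 hgP p ⟨p, hp, rfl⟩
    · rintro ⟨c, hc, rfl⟩
      refine ⟨c.2, Subgroup.mem_centralizer_iff.2 ?_⟩
      rintro _ ⟨p, hp, rfl⟩
      exact congrArg Subtype.val (Subgroup.mem_centralizer_iff.1 hc p hp)
  refine ⟨P.map (Cz t).subtype, ht, ?_, ?_, ?_, ⟨N.map (Cz t).subtype, ?_, Subgroup.map_subtype_le N, ?_, ?_,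
    ?_, Subgroup.map_mono hPN⟩, ?_, ?_, ?_, ?_⟩
  · rw [hcore]; exact extraspecial_equiv (Q.equivMapOfInjective _ hinj) hQ
  · rw [hcore, Subgroup.card_map_of_injective hinj, hcard]
  · rw [hcore]
    rintro g ⟨hg, hgQ⟩
    refine ⟨⟨g, hg⟩, hCQ (Subgroup.mem_centralizer_iff.2 fun q hq => Subtype.ext ?_), rfl⟩
    exact Subgroup.mem_centralizer_iff.1 hgQ q ⟨q, hq, rfl⟩
  · rw [hcore]; exact Subgroup.map_mono hQN
  · intro c hc
    refine Subgroup.mem_normalizer_iff.2 fun y => ⟨?_, ?_⟩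
    · rintro ⟨n, hn, rfl⟩
      exact ⟨⟨c, hc⟩ * n * ⟨c, hc⟩⁻¹, (inferInstance : N.Normal).conj_mem n hn _, rfl⟩
    · rintro ⟨n, hn, e⟩
      refine ⟨⟨c, hc⟩⁻¹ * n * ⟨c, hc⟩, by
        simpa using (inferInstance : N.Normal).conj_mem n hn (⟨c, hc⟩ : ↥(Cz t))⁻¹, ?_⟩
      rw [map_mul, map_mul, map_inv, e]
      show c⁻¹ * (c * y * c⁻¹) * c = y
      group
  · rw [hcore, Subgroup.card_map_of_injective hinj, Subgroup.card_map_of_injective hinj, hN]
  · have e : (N.map (Cz t).subtype).subgroupOf (Cz t) = N := Subgroup.comap_map_eq_self_of_injective hinj N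
    haveI hn : ((N.map (Cz t).subtype).subgroupOf (Cz t)).Normal := by rw [e]; infer_instance
    exact ⟨hn, ⟨(QuotientGroup.quotientMulEquivOfEq e).trans eN⟩⟩
  · rw [Subgroup.card_map_of_injective hinj, hPc]
  · rw [hcore]
    have h1 : (Q ⊓ Subgroup.centralizer (P : Set (Cz t))).map (Cz t).subtype = (Subgroup.zpowers z).map (Cz t).subtype :=
      congrArg _ hfix
    rw [Subgroup.map_inf _ _ _ hinj, MonoidHom.map_zpowers, ← hcentP, ← inf_assoc,
      inf_eq_left.2 (Subgroup.map_subtype_le Q)] at h1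
    exact h1
  · intro heq
    apply hne
    refine le_antisymm (fun c hc => ?_) (fun c hc => ?_)
    · have h1 : (c : G) ∈ Subgroup.centralizer ({t} : Set G) ⊓
          Subgroup.normalizer ((P.map (Cz t).subtype : Subgroup G) : Set G) := by
        refine ⟨c.2, Subgroup.mem_normalizer_iff.2 fun y => ⟨?_, ?_⟩⟩
        · rintro ⟨p, hp, rfl⟩
          exact ⟨c * p * c⁻¹, (Subgroup.mem_normalizer_iff.1 hc p).1 hp, rfl⟩
        · rintro ⟨p, hp, e⟩
          refine ⟨c⁻¹ * p * c, ?_, ?_⟩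
          · exact (Subgroup.mem_normalizer_iff.1 hc _).2 (by
              rwa [show c * (c⁻¹ * p * c) * c⁻¹ = p by group])
          · rw [map_mul, map_mul, map_inv, e]
            show (c : G)⁻¹ * (c * y * (c : G)⁻¹) * c = y
            group
      rw [heq, hcentP] at h1
      obtain ⟨c', hc', e⟩ := h1
      exact hinj e ▸ hc'
    · refine Subgroup.mem_normalizer_iff.2 fun p => ?_
      have h' := Subgroup.mem_centralizer_iff.1 hc
      constructor
      · intro hp
        rw [← h' p hp, mul_inv_cancel_right]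
        exact hp
      · intro hp
        have h'' := h' _ hp
        rw [inv_mul_cancel_right] at h''
        exact (mul_left_cancel h'') ▸ hp
  · rw [hcentP, ← Subgroup.map_commutator]
    exact Subgroup.map_mono hcom

/-- the hypothesis with a non-complemented triple cover on top of the core -/
theorem type_of_setting (Q N : Subgroup ↥(Subgroup.centralizer ({t} : Set G))) [Q.Normal] [N.Normal]
    (hS : Cfsg.IsExtraspecialCentralizerSetting t Q 6) (hQN : Q ≤ N)
    (hN3 : Nat.card N = 3 * Nat.card Q)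
    (hns : ∀ K : Subgroup ↥(Subgroup.centralizer ({t} : Set G)), K ⊓ N = Q → K ⊔ N = ⊤ → False)
    (eN : ↥(Subgroup.centralizer ({t} : Set G)) ⧸ N ≃* MulAut Cfsg.Spor.M22) :
    Cfsg.IsOfJankoFourTypeAt t := by
  classical
  obtain ⟨ht, hF, hQ, hcard, -⟩ := hS
  have hCQ : Subgroup.centralizer (Q : Set ↥(Subgroup.centralizer ({t} : Set G))) ≤ Q := by
    rw [← hF]; exact CfsgLib.Components.centralizer_fstar_le
  refine type_of_perfect ht Q N hQ (by rw [hcard]) hCQ hQN hN3 eN ?_
  set f : (Cz t) →* MulAut Cfsg.Spor.M22 := eN.toMonoidHom.comp (QuotientGroup.mk' N) with hf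
  set M := innPre eN with hM
  have hMn : M.Normal := Subgroup.Normal.comap (by
    exact Subgroup.normal_of_index_eq_two J4.index_inn) f
  have hfs : Function.Surjective f := eN.surjective.comp (QuotientGroup.mk'_surjective N)
  have hfk : ∀ c, f c = 1 ↔ c ∈ N := by
    intro c
    show eN (c : (Cz t) ⧸ N) = 1 ↔ _
    rw [MulEquiv.map_eq_one_iff, QuotientGroup.eq_one_iff]
  have hMidx : M.index = 2 := (Subgroup.index_comap_of_surjective _ hfs).trans J4.index_inn
  have hNM : N ≤ M := fun n hn => by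
    show f n ∈ Cfsg.Inn Cfsg.Spor.M22
    rw [(hfk n).2 hn]; exact one_mem _
  set D := ⁅M, M⁆ ⊔ Q with hD
  haveI : (⁅M, M⁆).Normal := Subgroup.commutator_normal M M
  haveI : D.Normal := Subgroup.sup_normal _ _
  have hcommM : ⁅M, M⁆ ≤ M := Subgroup.commutator_le.2 fun p hp q hq => by
    rw [commutatorElement_def]
    exact mul_mem (mul_mem (mul_mem hp hq) (inv_mem hp)) (inv_mem hq)
  have hDM : D ≤ M := sup_le hcommM (hQN.trans hNM)
  have hMD : M ≤ D ⊔ N := by
    intro m hm
    have hperf : Cfsg.Inn Cfsg.Spor.M22 ≤ ⁅Cfsg.Inn Cfsg.Spor.M22, Cfsg.Inn Cfsg.Spor.M22⁆ := by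
      haveI := J4.isSimpleGroup_M22
      have htop : commutator ↥Cfsg.Spor.M22 = ⊤ :=
        (Subgroup.Normal.eq_bot_or_eq_top inferInstance).resolve_left fun h => J4.not_comm_M22 fun a b => by
          rw [← commutatorElement_eq_one_iff_mul_comm, ← Subgroup.mem_bot, ← h]
          exact Subgroup.commutator_mem_commutator (Subgroup.mem_top a) (Subgroup.mem_top b)
      show (MulAut.conj : Cfsg.Spor.M22 →* MulAut Cfsg.Spor.M22).range ≤ _
      rw [MonoidHom.range_eq_map, ← htop, commutator_def, Subgroup.map_commutator]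
      show ⁅(⊤ : Subgroup ↥Cfsg.Spor.M22).map MulAut.conj, (⊤ : Subgroup ↥Cfsg.Spor.M22).map MulAut.conj⁆ ≤ _
      rw [← MonoidHom.range_eq_map]
    have h1 : f m ∈ (⁅M, M⁆).map f := by
      rw [Subgroup.map_commutator, Subgroup.map_comap_eq_self_of_surjective hfs]
      exact hperf hm
    obtain ⟨d, hd, e⟩ := h1
    have hn : d⁻¹ * m ∈ N := (hfk _).1 (by rw [map_mul, map_inv, e, inv_mul_cancel])
    rw [← mul_inv_cancel_left d m]
    exact mul_mem (Subgroup.mem_sup_left (Subgroup.mem_sup_left hd)) (Subgroup.mem_sup_right hn)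
  by_cases hND : N ≤ D
  · exact hMD.trans (sup_le le_rfl hND)
  exfalso
  have hQD : Q ≤ D := le_sup_right
  have hinf : N ⊓ D = Q := by
    refine (Subgroup.eq_of_le_of_card_ge (le_inf hQN hQD) ?_).symm
    have h1 := Subgroup.card_dvd_of_le (inf_le_left : N ⊓ D ≤ N)
    obtain ⟨b, hb⟩ := Subgroup.card_dvd_of_le (le_inf hQN hQD)
    rw [hN3, hb, mul_comm 3 (Nat.card Q)] at h1
    have hb3 : b ∣ 3 := Nat.dvd_of_mul_dvd_mul_left Nat.card_pos h1
    rcases (Nat.dvd_prime Nat.prime_three).1 hb3 with rfl | rfl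
    · rw [hb, mul_one]
    · exfalso
      apply hND
      intro n hn
      have e : N ⊓ D = N := Subgroup.eq_of_le_of_card_ge inf_le_left (by rw [hN3, hb, mul_comm])
      exact (le_of_eq e.symm hn).2
  -- a 2-element outside
  obtain ⟨g0, hg0⟩ : ∃ g0, g0 ∉ M := by
    by_contra h
    push Not at h
    rw [(Subgroup.eq_top_iff' M).2 h, Subgroup.index_top] at hMidx
    norm_num at hMidx
  obtain ⟨k, m, hodd, hkm⟩ := Nat.exists_eq_two_pow_mul_odd (orderOf_pos g0).ne'
  have hsq : ∀ a : (Cz t), a * a ∈ M := Subgroup.mul_self_mem_of_index_two hMidx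
  have hgM : g0 ^ m ∉ M := by
    intro h
    obtain ⟨j, rfl⟩ := hodd
    apply hg0
    rw [pow_succ, pow_mul, pow_two] at h
    exact (Subgroup.mul_mem_cancel_left M (pow_mem (hsq g0) j)).1 h
  set g := g0 ^ m with hg
  have hg2D : g * g ∈ D := by
    obtain ⟨d, hd, n, hn, e⟩ := Subgroup.mem_sup_of_normal_left.1 (hMD (hsq g))
    have h2k : (g * g) ^ 2 ^ k = 1 := by
      rw [← pow_two, ← pow_mul, hg, ← pow_mul, show m * (2 * 2 ^ k) = orderOf g0 * 2 by rw [hkm]; ring,
        pow_mul, pow_orderOf_eq_one, one_pow]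
    have hn1 : n ^ 2 ^ k ∈ N ⊓ D := by
      refine ⟨pow_mem hn _, ?_⟩
      have : ((n ^ 2 ^ k : (Cz t)) : (Cz t) ⧸ D) = 1 := by
        have e' : (n : (Cz t) ⧸ D) = ((g * g : (Cz t)) : (Cz t) ⧸ D) := by
          rw [← e, QuotientGroup.mk_mul, (QuotientGroup.eq_one_iff d).2 hd, one_mul]
        rw [QuotientGroup.mk_pow, e', ← QuotientGroup.mk_pow, h2k, QuotientGroup.mk_one]
      exact (QuotientGroup.eq_one_iff _).1 this
    rw [hinf] at hn1
    have hn3 : n ^ 3 ∈ Q := by
      have hcard3 : Nat.card (N ⧸ Q.subgroupOf N) = 3 := by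
        have e2 := Subgroup.card_eq_card_quotient_mul_card_subgroup (Q.subgroupOf N)
        rw [Nat.card_congr (Subgroup.subgroupOfEquivOfLe hQN).toEquiv, hN3] at e2
        exact (Nat.eq_of_mul_eq_mul_right Nat.card_pos e2).symm
      have h3 : ((⟨n, hn⟩ : N) : N ⧸ Q.subgroupOf N) ^ 3 = 1 := by
        rw [← hcard3]; exact pow_card_eq_one'
      rw [← QuotientGroup.mk_pow, QuotientGroup.eq_one_iff] at h3
      exact Subgroup.mem_subgroupOf.1 h3
    have hnQ : n ∈ Q := by
      obtain ⟨a, b, hab⟩ : ∃ a b : ℤ, (3 : ℤ) * a + (2 ^ k : ℕ) * b = 1 := by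
        have hco : IsCoprime (3 : ℤ) ((2 ^ k : ℕ) : ℤ) := by
          rw [Int.isCoprime_iff_nat_coprime]
          simpa using Nat.Coprime.pow_right k (by norm_num : Nat.Coprime 3 2)
        obtain ⟨a, b, h⟩ := hco
        exact ⟨a, b, by rw [← h]; ring⟩
      have e3 : n = (n ^ 3) ^ a * (n ^ (2 ^ k)) ^ b := by
        rw [← zpow_natCast n 3, ← zpow_natCast n (2 ^ k), ← zpow_mul, ← zpow_mul, ← zpow_add,
          Nat.cast_ofNat, hab, zpow_one]
      rw [e3]
      exact mul_mem (zpow_mem hn3 a) (zpow_mem hn1 b)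
    rw [← e]
    exact mul_mem hd (hQD hnQ)
  have hKM : ∀ x ∈ D ⊔ Subgroup.zpowers g, x ∈ M → x ∈ D := by
    intro x hx hxM
    obtain ⟨d, hd, y, hy, rfl⟩ := Subgroup.mem_sup_of_normal_left.1 hx
    obtain ⟨i, rfl⟩ := Subgroup.mem_zpowers_iff.1 hy
    rcases Int.even_or_odd i with ⟨j, rfl⟩ | ⟨j, rfl⟩
    · refine mul_mem hd ?_
      rw [← two_mul, zpow_mul, show g ^ (2 : ℤ) = g * g from zpow_two g]
      exact zpow_mem hg2D j
    · exfalso
      have h1 : g ^ (2 * j + 1) ∈ M := (Subgroup.mul_mem_cancel_left M (hDM hd)).1 hxM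
      rw [zpow_add_one, zpow_mul, show g ^ (2 : ℤ) = g * g from zpow_two g] at h1
      exact hgM ((Subgroup.mul_mem_cancel_left M (zpow_mem (hsq g) j)).1 h1)
  refine hns (D ⊔ Subgroup.zpowers g) (le_antisymm ?_ (le_inf (hQD.trans le_sup_left) hQN)) ?_
  · rintro x ⟨hx, hxN⟩
    rw [← hinf]
    exact ⟨hxN, hKM x hx (hNM hxN)⟩
  · refine (Subgroup.eq_top_iff' _).2 fun x => ?_
    have hg' : g ∈ D ⊔ Subgroup.zpowers g ⊔ N :=
      Subgroup.mem_sup_left (Subgroup.mem_sup_right (Subgroup.mem_zpowers g))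
    have hMle : M ≤ D ⊔ Subgroup.zpowers g ⊔ N := hMD.trans (sup_le_sup_right le_sup_left N)
    by_cases hx : x ∈ M
    · exact hMle hx
    · have h1 : x * g ∈ M := (Subgroup.mul_mem_iff_of_index_two hMidx).2 (iff_of_false hx hgM)
      have := mul_mem (hMle h1) (inv_mem hg')
      rwa [mul_inv_cancel_right] at this

/-- the hypothesis with a perfect triple cover of `M22` inside -/
theorem type_of_triple (ht : orderOf t = 2)
    (Q N M : Subgroup ↥(Subgroup.centralizer ({t} : Set G))) [Q.Normal] [N.Normal] [M.Normal]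
    (hQN : Q ≤ N) (hNM : N ≤ M) (hM : M.index = 2) (hQ : Cfsg.IsExtraspecial 2 Q)
    (hcard : Nat.card Q = 2 ^ 13) (hN : Nat.card N = 3 * Nat.card Q)
    (hperf : M ≤ ⁅M, M⁆ ⊔ Q)
    (h2c : Subgroup.centralizer (Q : Set ↥(Subgroup.centralizer ({t} : Set G))) ≤ Q)
    (hout : ∀ c : ↥(Subgroup.centralizer ({t} : Set G)),
      (∀ m ∈ M, c * m * c⁻¹ * m⁻¹ ∈ N) → c ∈ M)
    (hM22 : Cfsg.Spor.IsoM22 (M ⧸ N.subgroupOf M)) : Cfsg.IsOfJankoFourTypeAt t := by
  classical
  obtain ⟨e22⟩ := hM22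
  set π := QuotientGroup.mk' N with hπ
  set Mb := M.map π with hMb
  haveI : Mb.Normal := Subgroup.Normal.map inferInstance π (QuotientGroup.mk'_surjective N)
  have ker_eq : (π.domRestrict M).ker = N.subgroupOf M := by
    ext a
    simp [hπ, Subgroup.mem_subgroupOf]
  let eMb : ↥Mb ≃* Cfsg.Spor.M22 :=
    (((MulEquiv.subgroupCongr (MonoidHom.domRestrict_range M π)).symm.trans
      (QuotientGroup.quotientKerEquivRange _).symm).trans
      (QuotientGroup.quotientMulEquivOfEq ker_eq)).trans e22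
  let θ : (Cz t) ⧸ N →* MulAut Cfsg.Spor.M22 := (MulAut.congr eMb).toMonoidHom.comp MulAut.conjNormal
  have hθ : Function.Injective θ := by
    rw [injective_iff_map_eq_one]
    intro b hb
    obtain ⟨c, rfl⟩ := QuotientGroup.mk'_surjective N b
    have h1 : MulAut.conjNormal (H := Mb) (π c) = 1 :=
      (MulAut.congr eMb).injective (hb.trans (map_one _).symm)
    have hcM : c ∈ M := hout c fun m hm => by
      have h2 := congrArg (fun φ : MulAut ↥Mb => ((φ ⟨π m, Subgroup.mem_map_of_mem _ hm⟩ : ↥Mb) : (Cz t) ⧸ N)) h1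
      simp only [MulAut.conjNormal_apply, MulAut.one_apply] at h2
      rw [← QuotientGroup.eq_one_iff, ← QuotientGroup.mk'_apply, map_mul, map_mul, map_mul, map_inv,
        map_inv, h2, mul_inv_cancel]
    let y : ↥Mb := ⟨π c, Subgroup.mem_map_of_mem _ hcM⟩
    have hy : eMb y ∈ Subgroup.center Cfsg.Spor.M22 := by
      rw [Subgroup.mem_center_iff]
      intro g
      obtain ⟨w, rfl⟩ := eMb.surjective g
      rw [← map_mul, ← map_mul]
      refine congrArg eMb (Subtype.ext ?_)
      have h2 := congrArg (fun φ : MulAut ↥Mb => ((φ w : ↥Mb) : (Cz t) ⧸ N)) h1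
      simp only [MulAut.conjNormal_apply, MulAut.one_apply] at h2
      exact (mul_inv_eq_iff_eq_mul.1 h2).symm
    rw [J4.center_M22, Subgroup.mem_bot] at hy
    exact congrArg Subtype.val (eMb.injective (hy.trans (map_one eMb).symm))
  have hbij : Function.Bijective θ := by
    refine (Nat.bijective_iff_injective_and_card θ).2 ⟨hθ, ?_⟩
    rw [show Nat.card (MulAut Cfsg.Spor.M22) = 887040 by rw [← (Cfsg.Inn Cfsg.Spor.M22).card_mul_index, J4.card_inn, J4.index_inn]]
    have hMb2 : Mb.index = 2 := by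
      rw [hMb, Subgroup.index_map_eq M (QuotientGroup.mk'_surjective N)
        (by rw [QuotientGroup.ker_mk']; exact hNM), hM]
    have e := Mb.card_mul_index
    rw [hMb2, Nat.card_congr eMb.toEquiv, CfsgLib.MathieuOut.natCard_M22] at e
    exact e.symm.trans (by norm_num)
  let eN := MulEquiv.ofBijective θ hbij
  have hpre : innPre eN = M := by
    have hsur : Function.Surjective (eN.toMonoidHom.comp π) :=
      eN.surjective.comp (QuotientGroup.mk'_surjective N)
    have hidx : (M.map (eN.toMonoidHom.comp π)).index = 2 := by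
      rw [Subgroup.index_map_eq M hsur, hM]
      intro a ha
      refine hNM ((QuotientGroup.eq_one_iff a).1 (eN.injective ?_))
      exact (MonoidHom.mem_ker.1 ha).trans (map_one eN).symm
    show (Cfsg.Inn Cfsg.Spor.M22).comap _ = M
    rw [← J4.inn_le_of_index_two hidx]
    refine Subgroup.comap_map_eq_self ?_
    intro a ha
    refine hNM ((QuotientGroup.eq_one_iff a).1 (eN.injective ?_))
    exact (MonoidHom.mem_ker.1 ha).trans (map_one eN).symm
  exact type_of_perfect ht Q N hQ hcard h2c hQN hN eN (by rw [hpre]; exact hperf)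

end CfsgLib.Spor.JankoFourBridge
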